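import Groth.Agent.PullStalk.Basic
import Groth.Agent.CycLib.ModStalk
import Groth.Agent.QCoh.Pullback
import Groth.Agent.QCoh.Exact
import Groth.Agent.QCoh.FiniteType
import Groth.Agent.FDesc.QuasiFlat
import Groth.Agent.WeakAssSch.Basic
import Mathlib.RingTheory.LocalRing.Module
import Mathlib.LinearAlgebra.Dual.Lemmas

/-!
# The locus where a homomorphism becomes an epimorphism
-/

set_option autoImplicit false

universe u

open CategoryTheory Limits AlgebraicGeometry

namespace Groth.Agent.EpiLocus

/-- a finite module over a local ring vanishes if a base change along a local homomorphism does -/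
theorem subsingleton_of_isBaseChange {R S C D : Type u} [CommRing R] [IsLocalRing R] [CommRing S]
    [IsLocalRing S] [Algebra R S] [IsLocalHom (algebraMap R S)] [AddCommGroup C] [Module R C]
    [Module.Finite R C] [AddCommGroup D] [Module R D] [Module S D] [IsScalarTower R S D]
    {g : C →ₗ[R] D} (hg : IsBaseChange S g) [Subsingleton D] : Subsingleton C := by
  by_contra hC
  have hnt : ¬ Subsingleton (TensorProduct R (IsLocalRing.ResidueField R) C) :=
    fun h ↦ hC (IsLocalRing.subsingleton_tensorProduct.1 h)
  rw [not_subsingleton_iff_nontrivial] at hnt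
  obtain ⟨v, hv⟩ := exists_ne (0 : TensorProduct R (IsLocalRing.ResidueField R) C)
  obtain ⟨l, hl⟩ : ∃ l : TensorProduct R (IsLocalRing.ResidueField R) C →ₗ[IsLocalRing.ResidueField R]
      IsLocalRing.ResidueField R, l v ≠ 0 := by
    by_contra! h
    exact hv ((Module.forall_dual_apply_eq_zero_iff (IsLocalRing.ResidueField R) v).1 h)
  let φ : C →ₗ[R] IsLocalRing.ResidueField R :=
    (l.restrictScalars R) ∘ₗ (TensorProduct.mk R (IsLocalRing.ResidueField R) C 1)
  have hφ : φ ≠ 0 := fun h ↦ hl (by
    have key : ∀ w, l w = 0 := fun w ↦ by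
      induction w using TensorProduct.induction_on with
      | zero => exact map_zero l
      | tmul a c =>
        rw [show a ⊗ₜ[R] c = a • ((1 : IsLocalRing.ResidueField R) ⊗ₜ[R] c) by
          rw [TensorProduct.smul_tmul', smul_eq_mul, mul_one], map_smul,
          show l ((1 : IsLocalRing.ResidueField R) ⊗ₜ[R] c) = 0 from LinearMap.congr_fun h c, smul_zero]
      | add a b ha hb => rw [map_add, ha, hb, add_zero]
    exact key v)
  let ψ : C →ₗ[R] IsLocalRing.ResidueField S :=
    { toFun := fun c ↦ IsLocalRing.ResidueField.map (algebraMap R S) (φ c)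
      map_add' := fun a b ↦ by rw [map_add, map_add]
      map_smul' := fun r c ↦ by
        rw [map_smul, Algebra.smul_def, map_mul, RingHom.id_apply, Algebra.smul_def]
        rfl }
  refine hφ (LinearMap.ext fun c ↦ ?_)
  have h0 : ψ c = 0 := by
    rw [← hg.lift_eq ψ c, Subsingleton.elim (g c) 0, map_zero]
  exact (IsLocalRing.ResidueField.map (algebraMap R S)).injective (h0.trans (map_zero _).symm)

variable {S : Scheme.{u}}

/-- the open set where a finite type quasi-coherent module vanishes -/
theorem exists_opens_isZero_pullback (C : S.Modules) (hC : Coh.IsCoh C) :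
    ∃ U : S.Opens, ∀ (T : Scheme.{u}) (f : T ⟶ S),
      Set.range f.base ⊆ (U : Set S) ↔ IsZero ((Scheme.Modules.pullback f).obj C) := by
  have := hC.1
  have hcl := CycLib.isClosed_support C hC
  refine ⟨⟨_, hcl.isOpen_compl⟩, fun T f ↦ ⟨fun h ↦ ?_, fun h ↦ ?_⟩⟩
  · refine (WeakAssSch.isZero_iff_forall_stalk _).2 fun t ↦ ?_
    let := (f.stalkMap t).hom.toAlgebra
    let := PullStalk.Basic.moduleOver f C t
    have : IsScalarTower (S.presheaf.stalk (f t)) (T.presheaf.stalk t)
        (((Scheme.Modules.pullback f).obj C).presheaf.stalk t) :=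
      IsScalarTower.of_algebraMap_smul fun _ _ => rfl
    have : Subsingleton (C.presheaf.stalk (f t)) :=
      not_nontrivial_iff_subsingleton.1 fun hn ↦ h ⟨t, rfl⟩ hn
    exact (PullStalk.Basic.isBaseChange_unitStalk f C t).equiv.symm.toEquiv.subsingleton
  · rintro _ ⟨t, rfl⟩ hn
    let := (f.stalkMap t).hom.toAlgebra
    let := PullStalk.Basic.moduleOver f C t
    have : IsScalarTower (S.presheaf.stalk (f t)) (T.presheaf.stalk t)
        (((Scheme.Modules.pullback f).obj C).presheaf.stalk t) :=
      IsScalarTower.of_algebraMap_smul fun _ _ => rfl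
    have : IsLocalHom (algebraMap (S.presheaf.stalk (f t)) (T.presheaf.stalk t)) :=
      inferInstanceAs (IsLocalHom (f.stalkMap t).hom)
    have := FDesc.QuasiFlat.finite_stalk_of_isCoh C hC (f t)
    have := (WeakAssSch.isZero_iff_forall_stalk _).1 h t
    exact (not_subsingleton_iff_nontrivial.2 hn)
      (subsingleton_of_isBaseChange (PullStalk.Basic.isBaseChange_unitStalk f C t))

/-- the open set where a homomorphism to a finite type module becomes an epimorphism -/
theorem exists_opens_epi_pullback {E F : S.Modules} (hE : Coh.IsQCoh E) (hF : Coh.IsCoh F)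
    (v : E ⟶ F) :
    ∃ U : S.Opens, ∀ (T : Scheme.{u}) (f : T ⟶ S),
      Set.range f.base ⊆ (U : Set S) ↔ Epi ((Scheme.Modules.pullback f).map v) := by
  have hC : Coh.IsCoh (cokernel v) := by
    have hq : Coh.IsQCoh (cokernel v) := @QCoh.isQuasicoherent_cokernel S E F v hE hF.1
    refine ⟨hq, (@QCoh.isFiniteType_iff S (cokernel v) hq).mpr fun U hU ↦ ?_⟩
    have := @QCoh.finite_sections_of_isFiniteType S F hF.1 hF.2 U hU
    let π : Γ(F, U) →ₗ[Γ(S, U)] Γ(cokernel v, U) :=
      { toFun := (cokernel.π v).app U
        map_add' := map_add _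
        map_smul' := fun r a ↦ Scheme.Modules.Hom.app_smul (cokernel.π v) r a }
    exact Module.Finite.of_surjective π
      (@QCoh.app_surjective_of_epi S F (cokernel v) (cokernel.π v) _ hF.1 hq U hU)
  obtain ⟨U, hU⟩ := exists_opens_isZero_pullback (cokernel v) hC
  refine ⟨U, fun T f ↦ (hU T f).trans ?_⟩
  have e : (Scheme.Modules.pullback f).obj (cokernel v) ≅
      cokernel ((Scheme.Modules.pullback f).map v) := PreservesCokernel.iso _ _
  rw [e.isZero_iff]
  exact ⟨fun h ↦ Preadditive.epi_of_isZero_cokernel _ h,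
    fun h ↦ isZero_cokernel_of_epi _⟩

end Groth.Agent.EpiLocus
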