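import Groth.Agent.EpiLocus.ZeroHom
import Groth.Agent.HomShQC.Stalk
import Groth.Agent.PerfTri.Betti
import Groth.Agent.KFlat.StalkFlat
import Groth.Agent.KFlat.StalkTensor
import Groth.Agent.KFlat.LocFree
import Groth.Agent.LimTop.ModModel
import Groth.Agent.Props.QApproxMain

/-!
# Universally injective homomorphisms into finite locally free modules
-/

set_option autoImplicit false

universe u

open CategoryTheory Limits AlgebraicGeometry Opposite
open Groth.Agent.PullStalk.Sky Groth.Agent.PullStalk.Exact Groth.Agent.PullStalk.Basic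

noncomputable section

namespace Groth.Agent.EpiLocus

variable {S T : Scheme.{u}} {U E : S.Modules}

theorem free_stalk_of_isFinLocFree (hE : FlatMod.IsFinLocFree E) (s : S) :
    Module.Free (S.presheaf.stalk s) (E.presheaf.stalk s) ∧
      Module.Finite (S.presheaf.stalk s) (E.presheaf.stalk s) :=
  have := PerfTri.Betti.isQuasicoherent_of_isFinLocFree hE
  Props.QProj.free_stalk E hE s

/-- a split injection on a stalk stays injective after pullback -/
theorem stalkLin_pullback_injective (ι : U ⟶ E) (f : T ⟶ S) (t : T)
    (r : E.presheaf.stalk (f t) →ₗ[S.presheaf.stalk (f t)] U.presheaf.stalk (f t))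
    (hr : ∀ a, r (stalkLin ι (f t) a) = a) :
    Function.Injective (stalkLin ((Scheme.Modules.pullback f).map ι) t) := by
  let := (f.stalkMap t).hom.toAlgebra
  let := moduleOver f U t
  let := moduleOver f E t
  have : IsScalarTower (S.presheaf.stalk (f t)) (T.presheaf.stalk t)
      (((Scheme.Modules.pullback f).obj U).presheaf.stalk t) :=
    IsScalarTower.of_algebraMap_smul fun _ _ => rfl
  have : IsScalarTower (S.presheaf.stalk (f t)) (T.presheaf.stalk t)
      (((Scheme.Modules.pullback f).obj E).presheaf.stalk t) :=
    IsScalarTower.of_algebraMap_smul fun _ _ => rfl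
  have hE := isBaseChange_unitStalk f E t
  have hU := isBaseChange_unitStalk f U t
  let r' := hE.lift ((unitStalk f U t) ∘ₗ r)
  have h : r' ∘ₗ stalkLin ((Scheme.Modules.pullback f).map ι) t = LinearMap.id := by
    refine hU.algHom_ext _ _ fun a ↦ ?_
    change r' (stk ((Scheme.Modules.pullback f).map ι) t (unitStalkHom f U t a)) = unitStalk f U t a
    rw [stk_unitStalkHom]
    exact (hE.lift_eq _ _).trans (congrArg (unitStalk f U t) (hr a))
  exact Function.LeftInverse.injective (g := r') (LinearMap.congr_fun h)

/-- a monomorphism with finite locally free cokernel is universally a monomorphism -/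
theorem mono_pullback_of_isFinLocFree_cokernel (ι : U ⟶ E) [Mono ι]
    (hC : FlatMod.IsFinLocFree (cokernel ι)) (f : T ⟶ S) :
    Mono ((Scheme.Modules.pullback f).map ι) := by
  refine KFlat.StalkTensor.mono_of_stalk_injective _ fun t ↦ ?_
  let Sq := ShortComplex.mk ι (cokernel.π ι) (cokernel.condition ι)
  have hS : Sq.ShortExact :=
    ShortComplex.ShortExact.mk (mono_f := ‹Mono ι›) (epi_g := inferInstanceAs (Epi (cokernel.π ι)))
      (Sq.exact_of_g_is_cokernel (cokernelIsCokernel ι))
  obtain ⟨hinj, hex, hsurj⟩ := stalk_exact hS (f t)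
  have := (free_stalk_of_isFinLocFree hC (f t)).1
  obtain ⟨r, hr⟩ : ∃ r, r ∘ₗ stalkLin Sq.f (f t) = LinearMap.id :=
    ((Function.Exact.split_tfae hex hinj hsurj).out 0 1).mp
      (Module.projective_lifting_property _ _ hsurj)
  exact stalkLin_pullback_injective ι f t r (LinearMap.congr_fun hr)

/-- injectivity on a fibre gives a split injection on the stalk -/
theorem lTensor_residueField_injective (ι : U ⟶ E) (s : S) {K : Scheme.{u}} [Subsingleton K]
    [IsReduced K] (g : K ⟶ S) [IsPreimmersion g] (z : K) (hz : g z = s) (hK : IsField (K.presheaf.stalk z))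
    [Mono ((Scheme.Modules.pullback g).map ι)] :
    Function.Injective ((stalkLin ι (g z)).lTensor
      (IsLocalRing.ResidueField (S.presheaf.stalk (g z)))) := by
  let R := S.presheaf.stalk (g z)
  let L := K.presheaf.stalk z
  let := (g.stalkMap z).hom.toAlgebra
  let := moduleOver g U z
  let := moduleOver g E z
  have : IsScalarTower R L (((Scheme.Modules.pullback g).obj U).presheaf.stalk z) :=
    IsScalarTower.of_algebraMap_smul fun _ _ => rfl
  have : IsScalarTower R L (((Scheme.Modules.pullback g).obj E).presheaf.stalk z) :=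
    IsScalarTower.of_algebraMap_smul fun _ _ => rfl
  have hE := isBaseChange_unitStalk g E z
  have hU := isBaseChange_unitStalk g U z
  have hsurj : Function.Surjective (Algebra.ofId R L) := g.stalkMap_surjective z
  have hker : RingHom.ker (Algebra.ofId R L) = IsLocalRing.maximalIdeal R := by
    refine IsLocalRing.eq_maximalIdeal ?_
    letI := hK.toField
    exact RingHom.ker_isMaximal_of_surjective _ hsurj
  let e : IsLocalRing.ResidueField R ≃ₐ[R] L :=
    (Ideal.quotientEquivAlgOfEq R hker.symm).trans (Ideal.quotientKerAlgEquivOfSurjective hsurj)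
  have hinj : Function.Injective ((stalkLin ι (g z)).lTensor L) := by
    have h1 : Function.Injective (stalkLin ((Scheme.Modules.pullback g).map ι) z) :=
      KFlat.StalkTensor.stalk_map_injective z ((Scheme.Modules.pullback g).map ι)
    intro a b hab
    refine hU.equiv.injective (h1 ?_)
    have key : ∀ w, stalkLin ((Scheme.Modules.pullback g).map ι) z (hU.equiv w) =
        hE.equiv ((stalkLin ι (g z)).lTensor L w) := fun w ↦ by
      induction w using TensorProduct.induction_on with
      | zero => simp only [map_zero]
      | tmul a c =>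
        rw [LinearMap.lTensor_tmul, hU.equiv_tmul, hE.equiv_tmul, map_smul]
        exact congrArg (a • ·) (stk_unitStalkHom ι g z c)
      | add a b ha hb => simp only [map_add, ha, hb]
    rw [key, key, hab]
  intro a b hab
  apply (TensorProduct.congr e.toLinearEquiv (LinearEquiv.refl R (U.presheaf.stalk (g z)))).injective
  apply hinj
  have key : ∀ w, (stalkLin ι (g z)).lTensor L
      (TensorProduct.congr e.toLinearEquiv (LinearEquiv.refl R _) w) =
        TensorProduct.congr e.toLinearEquiv (LinearEquiv.refl R _)
          ((stalkLin ι (g z)).lTensor (IsLocalRing.ResidueField R) w) := fun w ↦ by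
    induction w using TensorProduct.induction_on with
    | zero => simp only [map_zero]
    | tmul a c => rfl
    | add a b ha hb => simp only [map_add, ha, hb]
  rw [key, key, hab]

/-- the cokernel of a map from a finite type module to a finite locally free one is of finite
presentation near every point -/
theorem exists_fpOn_cokernel (hU : CohB1.IsFT U) (hE : FlatMod.IsFinLocFree E) (ι : U ⟶ E) :
    (cokernel ι).IsQuasicoherent ∧ ∀ x : S, ∃ W : S.Opens, IsAffineOpen W ∧ x ∈ W ∧
      Module.FinitePresentation Γ(S, W) Γ(cokernel ι, W) := by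
  have := PerfTri.Betti.isQuasicoherent_of_isFinLocFree hE
  obtain ⟨σ, hσ⟩ := hU.exists_localGeneratorsData
  have hc := (Opens.coversTop_iff (U := σ.X)).mp σ.coversTop
  have key : ∀ i, ((cokernel ι).restrict (Scheme.Opens.ι (σ.X i))).IsQuasicoherent ∧
      CohB1.IsFP ((cokernel ι).restrict (Scheme.Opens.ι (σ.X i))) := fun i ↦ by
    let V : S.Opens := σ.X i
    let G := QCoh.generatorsRestrict U V (σ.generators i)
    have : Finite G.I := (hσ.isFiniteType i).finite
    obtain ⟨k, ⟨q⟩⟩ := Finite.exists_equiv_fin G.I
    let A := FlatMod.freeMod (V : Scheme.{u}) k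
    let e' : A ≅ (SheafOfModules.free.{u} (R := (V : Scheme.{u}).ringCatSheaf) G.I :
        (V : Scheme.{u}).Modules) :=
      (Props.QProj.freeModIso _ k).symm ≪≫
        SheafOfModules.freeFunctor.mapIso (Equiv.toIso (Equiv.ulift.trans q.symm))
    have hG : Epi (C := (V : Scheme.{u}).Modules) G.π := G.epi
    let π : A ⟶ U.restrict V.ι := e'.hom ≫ G.π
    have he : IsIso e'.hom := e'.isIso_hom
    have : Epi π := epi_comp' (@IsIso.epi_of_iso _ _ _ _ _ he) hG
    have hA : FlatMod.IsFinLocFree A := fun y ↦ ⟨⊤, k, trivial,
      ⟨(Scheme.Modules.restrictFunctor (⊤ : (V : Scheme.{u}).Opens).ι).mapIso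
          (Props.QProj.freeModIso _ k).symm ≪≫ Props.QProj.restrictFreeIso _ _ ≪≫
        Props.QProj.freeModIso _ k⟩⟩
    have := PerfTri.Betti.isQuasicoherent_of_isFinLocFree hA
    have hEV := KFlat.LocFree.isFinLocFree_restrict hE V
    have := PerfTri.Betti.isQuasicoherent_of_isFinLocFree hEV
    have hq := QCoh.isQuasicoherent_cokernel (π ≫ (Scheme.Modules.restrictFunctor V.ι).map ι)
    have hfp : CohB1.IsFP (cokernel (π ≫ (Scheme.Modules.restrictFunctor V.ι).map ι)) :=
      LimTop.isFP_cokernel
        ((QCoh.isFiniteType_iff A).mpr fun W hW ↦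
          have := Props.QProj.finitePresentation_sections A hA hW
          inferInstance)
        (Props.QProj.isFP _ hEV) _
    have : PreservesColimitsOfSize.{0, 0} (Scheme.Modules.restrictFunctor V.ι) :=
      (Scheme.Modules.restrictAdjunction V.ι).leftAdjoint_preservesColimits
    let e : cokernel (π ≫ (Scheme.Modules.restrictFunctor V.ι).map ι) ≅
        (cokernel ι).restrict V.ι :=
      cokernelEpiComp π ((Scheme.Modules.restrictFunctor V.ι).map ι) ≪≫
        (PreservesCokernel.iso (Scheme.Modules.restrictFunctor V.ι) ι).symm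
    have hq' := @QCoh.isQuasicoherent_of_iso _ _ _ e hq
    exact ⟨hq', (SheafOfModules.isFinitePresentation (V : Scheme.{u}).ringCatSheaf).prop_of_iso e hfp⟩
  have hq : (cokernel ι).IsQuasicoherent :=
    haveI := fun i ↦ (key i).1
    QCoh.isQuasicoherent_of_isOpenCover (cokernel ι) σ.X (TopologicalSpace.IsOpenCover.mk hc)
  refine ⟨hq, fun x ↦ ?_⟩
  obtain ⟨i, hi⟩ := TopologicalSpace.Opens.mem_iSup.mp (hc.ge (trivial : x ∈ (⊤ : S.Opens)))
  obtain ⟨W, hW, hxW, hWi⟩ := exists_isAffineOpen_mem_and_subset (U := (σ.X i : S.Opens)) (x := x) hi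
  exact ⟨W, hW, hxW, Props.QApproxMain.fpOn_of_restrict (key i).2 W hW hWi⟩

/-- fibrewise monomorphisms are monomorphisms with finite locally free cokernel -/
theorem mono_and_isFinLocFree_cokernel (hU : CohB1.IsFT U) (hE : FlatMod.IsFinLocFree E) (ι : U ⟶ E)
    (h : ∀ s : S, Mono ((Scheme.Modules.pullback (S.fromSpecResidueField s)).map ι)) :
    Mono ι ∧ FlatMod.IsFinLocFree (cokernel ι) := by
  have key : ∀ s : S, Function.Injective
      ((stalkLin ι s).lTensor (IsLocalRing.ResidueField (S.presheaf.stalk s))) := fun s ↦ by
    have := h s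
    obtain ⟨z⟩ : Nonempty (Spec (S.residueField s)) := inferInstance
    have hz : S.fromSpecResidueField s z = s := Scheme.fromSpecResidueField_apply s z
    have hK : IsField ((Spec (S.residueField s)).presheaf.stalk z) := by
      have : (PrimeSpectrum.asIdeal (R := S.residueField s) z).IsPrime := PrimeSpectrum.isPrime (R := S.residueField s) z
      let k : Algebra (S.residueField s) ((Spec (S.residueField s)).presheaf.stalk z) :=
        StructureSheaf.stalkAlgebra (S.residueField s) z
      have : IsLocalization.AtPrime ((Spec (S.residueField s)).presheaf.stalk z)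
          (PrimeSpectrum.asIdeal (R := S.residueField s) z) :=
        StructureSheaf.IsLocalization.to_stalk (S.residueField s) z
      let e := IsLocalization.atUnits (S.residueField s)
        (PrimeSpectrum.asIdeal (R := S.residueField s) z).primeCompl
        (S := (Spec (S.residueField s)).presheaf.stalk z) (fun a ha ↦ IsUnit.mk0 a fun h0 ↦ ha
          (h0.symm ▸ (PrimeSpectrum.asIdeal (R := S.residueField s) z).zero_mem))
      exact e.symm.toMulEquiv.isField (Field.toIsField (S.residueField s))
    have e := lTensor_residueField_injective ι s (S.fromSpecResidueField s) z hz hK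
    rw [hz] at e
    exact e
  have hinj : ∀ s, Function.Injective (stalkLin ι s) := fun s ↦ by
    obtain ⟨_, hfree⟩ := free_stalk_of_isFinLocFree hE s
    have := (free_stalk_of_isFinLocFree hE s).1
    have := HomShQC.finite_stalk U hU s
    obtain ⟨l, hl⟩ := (IsLocalRing.split_injective_iff_lTensor_residueField_injective _).2 (key s)
    exact Function.LeftInverse.injective (g := l) (LinearMap.congr_fun hl)
  have hmono : Mono ι := KFlat.StalkTensor.mono_of_stalk_injective _ hinj
  refine ⟨hmono, ?_⟩
  obtain ⟨hq, hfp⟩ := exists_fpOn_cokernel hU hE ι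
  refine Props.QProj.isFinLocFree_of (cokernel ι) hfp fun s ↦ ?_
  let Sq := ShortComplex.mk ι (cokernel.π ι) (cokernel.condition ι)
  have hS : Sq.ShortExact :=
    ShortComplex.ShortExact.mk (mono_f := hmono) (epi_g := inferInstanceAs (Epi (cokernel.π ι)))
      (Sq.exact_of_g_is_cokernel (cokernelIsCokernel ι))
  obtain ⟨-, hex, hsurj⟩ := stalk_exact hS s
  have := (free_stalk_of_isFinLocFree hE s).1
  have := (free_stalk_of_isFinLocFree hE s).2
  have := HomShQC.finite_stalk U hU s
  exact Module.free_of_lTensor_residueField_injective (stalkLin ι s) (stalkLin (cokernel.π ι) s)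
    hsurj hex (key s)

end Groth.Agent.EpiLocus

end
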