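import Groth.Agent.EpiLocus.Basic
import Groth.Agent.RankLocus.Basic
import Groth.Agent.Props.QProj
import Groth.Agent.PullStalk.Exact
import Mathlib.RingTheory.Localization.Module

/-!
# The closed subscheme where a homomorphism to a finite locally free module vanishes
-/

set_option autoImplicit false

universe u

open CategoryTheory Limits AlgebraicGeometry Opposite
open Groth.Agent.PullStalk.Sky Groth.Agent.Props.QStalk

noncomputable section

namespace Groth.Agent.EpiLocus

open PullStalk.Basic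

variable {S T : Scheme.{u}} {E F : S.Modules} (v : E ⟶ F)

/-- the map on stalks, on sections -/
abbrev stk {X : Scheme.{u}} {M N : X.Modules} (φ : M ⟶ N) (x : X) :
    M.presheaf.stalk x →+ N.presheaf.stalk x :=
  ((TopCat.Presheaf.stalkFunctor AddCommGrpCat.{u} x).map φ.mapPresheaf).hom

theorem stk_germM {X : Scheme.{u}} {M N : X.Modules} (φ : M ⟶ N) (U : X.Opens) (x : X) (hx : x ∈ U)
    (m : Γ(M, U)) : stk φ x (germM M U x hx m) = germM N U x hx (φ.app U m) :=
  TopCat.Presheaf.stalkFunctor_map_germ_apply U x hx φ.mapPresheaf m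

theorem stk_unitStalkHom (f : T ⟶ S) (t : T) (e : E.presheaf.stalk (f t)) :
    stk ((Scheme.Modules.pullback f).map v) t (unitStalkHom f E t e) =
      unitStalkHom f F t (stk v (f t) e) := by
  obtain ⟨W, hW, s, rfl⟩ := exists_germM_eq E (f t) e
  refine (congrArg _ (unitStalkHom_germ f E t W hW s)).trans ?_
  refine (stk_germM _ (f ⁻¹ᵁ W) t hW _).trans ?_
  refine Eq.trans ?_ (congrArg _ (stk_germM v W (f t) hW s)).symm
  refine Eq.trans ?_ (unitStalkHom_germ f F t W hW _).symm
  refine congrArg _ ?_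
  exact (ConcreteCategory.congr_hom (congrArg (fun φ => Scheme.Modules.Hom.app φ W)
    ((Scheme.Modules.pullbackPushforwardAdjunction f).unit.naturality v)) s).symm

/-- `f^* v = 0` when the images of stalks of `v` die -/
theorem pullback_map_eq_zero (f : T ⟶ S)
    (h : ∀ (t : T) (e : E.presheaf.stalk (f t)), unitStalkHom f F t (stk v (f t) e) = 0) :
    (Scheme.Modules.pullback f).map v = 0 := by
  have hunit : v ≫ (Scheme.Modules.pullbackPushforwardAdjunction f).unit.app F = 0 := by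
    refine Scheme.Modules.hom_ext _ _ fun W ↦ ?_
    ext s
    refine WeakAssSch.section_eq_zero_of_germ ((Scheme.Modules.pullback f).obj F) _ fun t ht ↦ ?_
    refine Eq.trans ?_ (h t (germM E W (f t) ht s))
    refine Eq.trans ?_ (congrArg _ (stk_germM v W (f t) ht s)).symm
    exact (unitStalkHom_germ f F t W ht _).symm
  apply ((Scheme.Modules.pullbackPushforwardAdjunction f).homEquiv E _).injective
  rw [Adjunction.homEquiv_unit, Adjunction.homEquiv_unit, Functor.map_zero, comp_zero]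
  exact ((Scheme.Modules.pullbackPushforwardAdjunction f).unit.naturality v).symm.trans hunit

variable (hF : FlatMod.IsFinLocFree F)

/-- sections of `O_S` killed by every morphism killing `v` -/
def zeroIdeal (U : S.Opens) : Ideal Γ(S, U) :=
  ⨅ (T : Scheme.{u}) (f : T ⟶ S) (_ : (Scheme.Modules.pullback f).map v = 0),
    RingHom.ker (f.app U).hom

theorem mem_zeroIdeal {U : S.Opens} {a : Γ(S, U)} :
    a ∈ zeroIdeal v U ↔
      ∀ (T : Scheme.{u}) (f : T ⟶ S), (Scheme.Modules.pullback f).map v = 0 → f.app U a = 0 := by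
  simp only [zeroIdeal, Submodule.mem_iInf, RingHom.mem_ker]

/-- the coefficients of `v` in a frame -/
def coeffIdeal {D : S.Opens} {n : ℕ} (b : Module.Basis (Fin n) Γ(S, D) Γ(F, D)) :
    Ideal Γ(S, D) :=
  Ideal.span (Set.range fun p : Γ(E, D) × Fin n ↦ b.repr (v.app D p.1) p.2)

variable [F.IsQuasicoherent]

/-- if `f^* v = 0` the coefficients die -/
theorem app_eq_zero_of_map_eq_zero {D : S.Opens} (hD : IsAffineOpen D) {n : ℕ}
    (b : Module.Basis (Fin n) Γ(S, D) Γ(F, D)) (f : T ⟶ S)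
    (hf : (Scheme.Modules.pullback f).map v = 0) :
    coeffIdeal v b ≤ RingHom.ker (f.app D).hom := by
  refine Ideal.span_le.2 ?_
  rintro _ ⟨⟨s, i⟩, rfl⟩
  refine TopCat.Presheaf.section_ext T.sheaf (f ⁻¹ᵁ D) _ 0 fun t ht ↦ ?_
  change T.presheaf.germ (f ⁻¹ᵁ D) t ht (f.app D (b.repr (v.app D s) i)) =
    T.presheaf.germ (f ⁻¹ᵁ D) t ht 0
  rw [map_zero, ← Scheme.Hom.germ_stalkMap_apply f D t ht]
  let := moduleSections F (show f t ∈ D from ht)
  let := S.presheaf.algebra_section_stalk ⟨f t, ht⟩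
  have : IsScalarTower Γ(S, D) (S.presheaf.stalk (f t)) (F.presheaf.stalk (f t)) :=
    IsScalarTower.of_algebraMap_smul fun _ _ ↦ rfl
  have := isLocalizedModule_germLin F (show f t ∈ D from ht) hD
  have : IsLocalization.AtPrime (S.presheaf.stalk (f t)) (hD.primeIdealOf ⟨f t, ht⟩).asIdeal :=
    hD.isLocalization_stalk ⟨f t, ht⟩
  let bx := b.ofIsLocalizedModule (S.presheaf.stalk (f t))
    (hD.primeIdealOf ⟨f t, ht⟩).asIdeal.primeCompl (germLin F (show f t ∈ D from ht))
  let := (f.stalkMap t).hom.toAlgebra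
  let := moduleOver f F t
  have : IsScalarTower (S.presheaf.stalk (f t)) (T.presheaf.stalk t)
      (((Scheme.Modules.pullback f).obj F).presheaf.stalk t) :=
    IsScalarTower.of_algebraMap_smul fun _ _ => rfl
  have hb := isBaseChange_unitStalk f F t
  have hrepr : bx.repr (germM F D (f t) ht (v.app D s)) i =
      S.presheaf.germ D (f t) ht (b.repr (v.app D s) i) :=
    b.ofIsLocalizedModule_repr_apply (S.presheaf.stalk (f t))
      (hD.primeIdealOf ⟨f t, ht⟩).asIdeal.primeCompl (germLin F (show f t ∈ D from ht)) _ i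
  have h0 : unitStalkHom f F t (germM F D (f t) ht (v.app D s)) = 0 := by
    refine (congrArg _ (stk_germM v D (f t) ht s)).symm.trans ?_
    refine (stk_unitStalkHom v f t _).symm.trans ?_
    rw [hf]
    obtain ⟨W, hW, m, hm⟩ := exists_germM_eq _ t (unitStalkHom f E t (germM E D (f t) ht s))
    rw [← hm, stk_germM]
    exact map_zero (((Scheme.Modules.pullback f).obj F).presheaf.germ W t hW).hom
  rw [← hrepr]
  have e : (bx.baseChange (T.presheaf.stalk t)).repr
      (hb.equiv.symm (unitStalkHom f F t (germM F D (f t) ht (v.app D s)))) i =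
        f.stalkMap t (bx.repr (germM F D (f t) ht (v.app D s)) i) := by
    have : hb.equiv.symm (unitStalkHom f F t (germM F D (f t) ht (v.app D s))) =
        (1 : T.presheaf.stalk t) ⊗ₜ[S.presheaf.stalk (f t)] germM F D (f t) ht (v.app D s) :=
      hb.equiv_symm_apply _
    rw [this, Module.Basis.baseChange_repr_tmul, Algebra.smul_def, mul_one]
    rfl
  rw [h0, map_zero, map_zero] at e
  exact e.symm

/-- if the coefficients die, the stalks of `v` die -/
theorem unitStalkHom_stk_eq_zero [E.IsQuasicoherent] {D : S.Opens} (hD : IsAffineOpen D) {n : ℕ}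
    (b : Module.Basis (Fin n) Γ(S, D) Γ(F, D)) (f : T ⟶ S)
    (hf : coeffIdeal v b ≤ RingHom.ker (f.app D).hom) (t : T) (ht : f t ∈ D)
    (e : E.presheaf.stalk (f t)) : unitStalkHom f F t (stk v (f t) e) = 0 := by
  let := moduleSections E ht
  have := isLocalizedModule_germLin E ht hD
  obtain ⟨⟨s, r⟩, he⟩ := IsLocalizedModule.surj
    (hD.primeIdealOf ⟨f t, ht⟩).asIdeal.primeCompl (germLin E ht) e
  have hu : IsUnit (S.presheaf.germ D (f t) ht r.1) := by
    let := S.presheaf.algebra_section_stalk ⟨f t, ht⟩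
    have : IsLocalization.AtPrime (S.presheaf.stalk (f t)) (hD.primeIdealOf ⟨f t, ht⟩).asIdeal :=
      hD.isLocalization_stalk ⟨f t, ht⟩
    exact (IsLocalization.AtPrime.isUnit_to_map_iff (S.presheaf.stalk (f t))
      (hD.primeIdealOf ⟨f t, ht⟩).asIdeal r.1).2 r.2
  have he' : S.presheaf.germ D (f t) ht r.1 • e = germM E D (f t) ht s := he
  have hlin : ∀ (a : S.presheaf.stalk (f t)) (z : E.presheaf.stalk (f t)),
      stk v (f t) (a • z) = a • stk v (f t) z := fun a z ↦ (PullStalk.Exact.stalkLin v (f t)).map_smul a z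
  have hzero : unitStalkHom f F t (germM F D (f t) ht (v.app D s)) = 0 := by
    rw [← b.sum_repr (v.app D s)]
    rw [show germM F D (f t) ht (∑ i, b.repr (v.app D s) i • b i) =
      ∑ i, germM F D (f t) ht (b.repr (v.app D s) i • b i) from
      map_sum (F.presheaf.germ D (f t) ht).hom _ _, map_sum]
    refine Finset.sum_eq_zero fun i _ ↦ ?_
    rw [germM_smul, unitStalkHom_smul, Scheme.Hom.germ_stalkMap_apply,
      show f.app D (b.repr (v.app D s) i) = 0 from hf (Ideal.subset_span ⟨(s, i), rfl⟩),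
      map_zero, zero_smul]
  have h1 : f.stalkMap t (S.presheaf.germ D (f t) ht r.1) • unitStalkHom f F t (stk v (f t) e) = 0 := by
    rw [← unitStalkHom_smul, ← hlin, he', stk_germM, hzero]
  exact ((hu.map (f.stalkMap t).hom).smul_eq_zero).1 h1

include hF in
omit [F.IsQuasicoherent] in
theorem exists_frame {x : S} {U : S.Opens} (hx : x ∈ U) :
    ∃ D : S.Opens, IsAffineOpen D ∧ x ∈ D ∧ D ≤ U ∧
      ∃ (n : ℕ), Nonempty (Module.Basis (Fin n) Γ(S, D) Γ(F, D)) := by
  obtain ⟨V, n, hxV, ⟨e⟩⟩ := hF x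
  obtain ⟨W, hW, hxW, hWU⟩ := exists_isAffineOpen_mem_and_subset (U := U ⊓ V) (x := x) ⟨hx, hxV⟩
  exact ⟨W, hW, hxW, fun y hy ↦ (hWU hy).1, n,
    Props.QProj.free_sections_of_restrict_iso F e hW fun y hy ↦ (hWU hy).2⟩

variable [E.IsQuasicoherent]

theorem exists_pow_mul_mem_local {U : S.Opens} (g a : Γ(S, U)) {D : S.Opens} (hD : IsAffineOpen D)
    (hDU : D ≤ U) {n : ℕ} (b : Module.Basis (Fin n) Γ(S, D) Γ(F, D))
    (ha : S.presheaf.map (homOfLE (S.basicOpen_le g)).op a ∈ zeroIdeal v (S.basicOpen g)) :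
    ∃ m : ℕ, ∀ (T : Scheme.{u}) (f : T ⟶ S), (Scheme.Modules.pullback f).map v = 0 →
      f.app D (S.presheaf.map (homOfLE hDU).op (g ^ m * a)) = 0 := by
  let ρ := (S.presheaf.map (homOfLE hDU).op).hom
  let gD := ρ g
  let D' := S.basicOpen gD
  have hD'D : D' ≤ D := S.basicOpen_le gD
  have hD'g : D' ≤ S.basicOpen g :=
    (Scheme.basicOpen_res S g (homOfLE hDU).op).le.trans inf_le_right
  have hD' : IsAffineOpen D' := hD.basicOpen gD
  let K : Ideal Γ(S, D') := (coeffIdeal v b).map (S.presheaf.map (homOfLE hD'D).op).hom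
  let q : Γ(S, D') ⟶ CommRingCat.of (Γ(S, D') ⧸ K) := CommRingCat.ofHom (Ideal.Quotient.mk K)
  let f₀ := Spec.map q ≫ hD'.fromSpec
  have hrange : ∀ t, f₀ t ∈ D' := fun t => hD'.range_fromSpec.le ⟨_, rfl⟩
  have eV : ∀ {V : S.Opens}, D' ≤ V → (⊤ : (Spec (CommRingCat.of (Γ(S, D') ⧸ K))).Opens) ≤
      f₀ ⁻¹ᵁ V := fun h t _ => h (hrange t)
  have hzero : ∀ (V : S.Opens) (h : D' ≤ V) (c : Γ(S, V)),
      f₀.app V c = 0 ↔ S.presheaf.map (homOfLE h).op c ∈ K := fun V h c => by
    rw [RankLocus.app_eq_zero_iff (eV h), RankLocus.specMap_fromSpec_appLE hD' q V h,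
      CommRingCat.comp_apply,
      CommRingCat.comp_apply, map_eq_zero_iff
        (Scheme.ΓSpecIso (CommRingCat.of (Γ(S, D') ⧸ K))).inv.hom
        (ConcreteCategory.bijective_of_isIso
          (Scheme.ΓSpecIso (CommRingCat.of (Γ(S, D') ⧸ K))).inv).1]
    exact Ideal.Quotient.eq_zero_iff_mem
  have hf₀ : (Scheme.Modules.pullback f₀).map v = 0 := pullback_map_eq_zero v f₀ fun t e ↦
    unitStalkHom_stk_eq_zero v hD b f₀
      (fun c hc ↦ (hzero D hD'D c).2 (Ideal.mem_map_of_mem _ hc)) t (hD'D (hrange t)) e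
  have haK := (hzero _ hD'g _).1 ((mem_zeroIdeal v).1 ha _ f₀ hf₀)
  rw [← CommRingCat.comp_apply, ← Functor.map_comp] at haK
  replace haK : S.presheaf.map (homOfLE hD'D).op (ρ a) ∈ K := by
    rw [← CommRingCat.comp_apply, ← Functor.map_comp]
    exact haK
  let : Algebra Γ(S, D) Γ(S, D') := (S.presheaf.map (homOfLE hD'D).op).hom.toAlgebra
  have : IsLocalization.Away gD Γ(S, D') := hD.isLocalization_basicOpen gD
  obtain ⟨⟨⟨c, hc⟩, ⟨_, k, rfl⟩⟩, he⟩ :=
    (IsLocalization.mem_map_algebraMap_iff (Submonoid.powers gD) Γ(S, D')).1 haK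
  change algebraMap _ _ (ρ a) * algebraMap _ _ (gD ^ k) = algebraMap _ _ c at he
  rw [← map_mul] at he
  obtain ⟨⟨_, p, rfl⟩, hp⟩ := (IsLocalization.eq_iff_exists (Submonoid.powers gD) Γ(S, D')).1 he
  refine ⟨p + k, fun T f hf => app_eq_zero_of_map_eq_zero v hD b f hf ?_⟩
  have h1 : gD ^ p * (ρ a * gD ^ k) = gD ^ p * c := hp
  have h2 : ρ (g ^ (p + k) * a) = gD ^ p * (ρ a * gD ^ k) := by
    rw [map_mul, map_pow, pow_add]; ring
  change ρ (g ^ (p + k) * a) ∈ coeffIdeal v b
  rw [h2, h1]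
  exact (coeffIdeal v b).mul_mem_left _ hc

include hF in
theorem exists_pow_mul_mem_zeroIdeal {U : S.Opens} (hU : IsAffineOpen U) (g a : Γ(S, U))
    (ha : S.presheaf.map (homOfLE (S.basicOpen_le g)).op a ∈ zeroIdeal v (S.basicOpen g)) :
    ∃ m : ℕ, g ^ m * a ∈ zeroIdeal v U := by
  classical
  choose D hD hxD hDU n b using fun x : U => exists_frame hF x.2
  choose m hm using fun x : U => exists_pow_mul_mem_local v g a (hD x) (hDU x) (b x).some ha
  obtain ⟨s, hs⟩ := hU.isCompact.elim_finite_subcover (fun x : U => (D x : Set S))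
    (fun x => (D x).2) (fun x hx => Set.mem_iUnion.2 ⟨⟨x, hx⟩, hxD _⟩)
  refine ⟨s.sup m, (mem_zeroIdeal v).2 fun T f hf => ?_⟩
  refine TopCat.Presheaf.section_ext T.sheaf (f ⁻¹ᵁ U) _ 0 fun t ht => ?_
  obtain ⟨x, hxs, htD⟩ : ∃ x ∈ s, f t ∈ D x := by simpa using hs ht
  change T.presheaf.germ (f ⁻¹ᵁ U) t ht (f.app U (g ^ s.sup m * a)) =
    T.presheaf.germ (f ⁻¹ᵁ U) t ht 0
  rw [map_zero, ← T.presheaf.germ_res_apply (homOfLE (f.preimage_mono (hDU x))) t htD]
  refine (congrArg (T.presheaf.germ _ t htD) ?_).trans (map_zero _)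
  have hle := Finset.le_sup (f := m) hxs
  rw [← Nat.sub_add_cancel hle, pow_add, mul_assoc, map_mul, map_mul]
  refine mul_eq_zero_of_right _ ?_
  refine Eq.trans ?_ (hm x T f hf)
  exact (congr($(f.naturality (homOfLE (hDU x)).op) (g ^ m x * a))).symm

/-- the ideal sheaf of the zero scheme of `v` -/
def zeroIdealSheaf : S.IdealSheafData where
  ideal U := zeroIdeal v U.1
  map_ideal_basicOpen U g := by
    refine le_antisymm (Ideal.map_le_iff_le_comap.2 fun a ha => ?_) fun b hb => ?_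
    · exact (mem_zeroIdeal v).2 fun T f hf =>
        RankLocus.app_res_eq_zero f (S.basicOpen_le g) ((mem_zeroIdeal v).1 ha T f hf)
    · let : Algebra Γ(S, U.1) Γ(S, S.basicOpen g) :=
        (S.presheaf.map (homOfLE (S.basicOpen_le g)).op).hom.toAlgebra
      have : IsLocalization.Away g Γ(S, S.basicOpen g) := U.2.isLocalization_basicOpen g
      obtain ⟨⟨a, ⟨_, k, rfl⟩⟩, he⟩ := IsLocalization.surj (Submonoid.powers g) b
      change b * algebraMap _ _ (g ^ k) = algebraMap _ _ a at he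
      obtain ⟨p, hp⟩ := exists_pow_mul_mem_zeroIdeal v hF U.2 g a (by
        change algebraMap Γ(S, U.1) Γ(S, S.basicOpen g) a ∈ zeroIdeal v (S.basicOpen g)
        rw [← he]
        exact Ideal.mul_mem_right _ _ hb)
      have hu : IsUnit (algebraMap Γ(S, U.1) Γ(S, S.basicOpen g) (g ^ (p + k))) :=
        IsLocalization.map_units Γ(S, S.basicOpen g)
          (⟨g ^ (p + k), p + k, rfl⟩ : Submonoid.powers g)
      refine (Ideal.mul_unit_mem_iff_mem _ hu).1 ?_
      have : b * algebraMap _ _ (g ^ (p + k)) = algebraMap Γ(S, U.1) _ (g ^ p * a) := by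
        rw [pow_add, map_mul, map_mul, ← he]; ring
      rw [this]
      exact Ideal.mem_map_of_mem _ hp

/-- the zero scheme of `v` represents `f^* v = 0` -/
theorem factors_zeroIdealSheaf_iff {f : T ⟶ S} :
    (∃ g : T ⟶ (zeroIdealSheaf v hF).subscheme, g ≫ (zeroIdealSheaf v hF).subschemeι = f) ↔
      (Scheme.Modules.pullback f).map v = 0 := by
  let J := zeroIdealSheaf v hF
  constructor
  · rintro ⟨g, rfl⟩
    refine pullback_map_eq_zero v _ fun t e ↦ ?_
    obtain ⟨D, hD, htD, -, n, ⟨b⟩⟩ := exists_frame hF (x := (g ≫ J.subschemeι) t) (U := ⊤) trivial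
    refine unitStalkHom_stk_eq_zero v hD b _ (fun c hc ↦ ?_) t htD e
    have h1 : c ∈ J.ideal ⟨D, hD⟩ :=
      (mem_zeroIdeal v).2 fun T' f' hf' => app_eq_zero_of_map_eq_zero v hD b f' hf' hc
    rw [← Scheme.IdealSheafData.ker_subschemeι_app, RingHom.mem_ker] at h1
    change g.app (J.subschemeι ⁻¹ᵁ D) (J.subschemeι.app D c) = 0
    exact (congrArg _ h1).trans (map_zero _)
  · intro hf
    have hle : J.subschemeι.ker ≤ f.ker := by
      rw [Scheme.IdealSheafData.ker_subschemeι]
      exact Scheme.IdealSheafData.le_ofIdeals_iff.2 fun U a ha => (mem_zeroIdeal v).1 ha T f hf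
    exact ⟨IsClosedImmersion.lift J.subschemeι f hle, IsClosedImmersion.lift_fac _ _ _⟩

end Groth.Agent.EpiLocus

end
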